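import Mathlib
import Cfsg.Agent.Lib.Helper68.Half.Defs

/-!
# S3371 (project HALF): package [DIH] — the dihedral 2-groups carry `MCData`
-/

set_option autoImplicit false

namespace Cfsg.Agent.Lib.Helper42.Half

open Cfsg.Agent.Lib.Helper68.Half DihedralGroup

universe v

/-- the rotation subgroup of the dihedral group -/
def rot (n : ℕ) : Subgroup (DihedralGroup n) where
  carrier := {g | ∃ i, g = r i}
  mul_mem' := by
    rintro _ _ ⟨i, rfl⟩ ⟨j, rfl⟩
    exact ⟨i + j, r_mul_r i j⟩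
  one_mem' := ⟨0, one_def⟩
  inv_mem' := by
    rintro _ ⟨i, rfl⟩
    exact ⟨-i, inv_r i⟩

theorem mem_rot {n : ℕ} {g : DihedralGroup n} : g ∈ rot n ↔ ∃ i, g = r i := Iff.rfl

theorem sr_not_mem_rot {n : ℕ} (i : ZMod n) : sr i ∉ rot n := by
  rintro ⟨j, h⟩
  cases h

theorem not_mem_rot_iff {n : ℕ} {g : DihedralGroup n} : g ∉ rot n ↔ ∃ i, g = sr i := by
  constructor
  · intro h
    cases g with
    | r i => exact absurd ⟨i, rfl⟩ h
    | sr i => exact ⟨i, rfl⟩
  · rintro ⟨i, rfl⟩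
    exact sr_not_mem_rot i

theorem card_rot (n : ℕ) [NeZero n] : Nat.card (rot n) = n := by
  have e : ZMod n ≃ rot n := Equiv.ofBijective (fun i => ⟨r i, i, rfl⟩)
    ⟨fun i j h => by
      have h' := congrArg Subtype.val h
      exact r.inj h', fun ⟨g, i, hi⟩ => ⟨i, Subtype.ext hi.symm⟩⟩
  rw [← Nat.card_congr e, Nat.card_eq_fintype_card, ZMod.card]

theorem index_rot (n : ℕ) [NeZero n] : (rot n).index = 2 := by
  have h := Subgroup.card_mul_index (rot n)
  rw [card_rot, DihedralGroup.nat_card] at h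
  have hn : 0 < n := Nat.pos_of_ne_zero (NeZero.ne n)
  exact Nat.eq_of_mul_eq_mul_left hn (h.trans (mul_comm 2 n))

theorem card_refl (n : ℕ) [NeZero n] :
    Nat.card {t : DihedralGroup n // t ∉ rot n ∧ t * t = 1} = n := by
  have e : ZMod n ≃ {t : DihedralGroup n // t ∉ rot n ∧ t * t = 1} :=
    Equiv.ofBijective (fun i => ⟨sr i, sr_not_mem_rot i, sr_mul_self i⟩)
      ⟨fun i j h => by
        have h' := congrArg Subtype.val h
        exact sr.inj h',
       fun ⟨t, ht, _⟩ => by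
        obtain ⟨i, rfl⟩ := not_mem_rot_iff.mp ht
        exact ⟨i, rfl⟩⟩
  rw [← Nat.card_congr e, Nat.card_eq_fintype_card, ZMod.card]

theorem zmod_two_torsion (k : ℕ) (hk : 1 ≤ k) (x : ZMod (2 ^ k)) (hx : x + x = 0)
    (hx0 : x ≠ 0) : x = ((2 ^ (k - 1) : ℕ) : ZMod (2 ^ k)) := by
  have : NeZero (2 ^ k) := ⟨by positivity⟩
  have hv : x.val < 2 ^ k := ZMod.val_lt x
  have hv0 : x.val ≠ 0 := fun h => hx0 ((ZMod.val_eq_zero x).mp h)
  have hd : 2 ^ k ∣ x.val + x.val := by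
    rw [← ZMod.natCast_eq_zero_iff, Nat.cast_add, ZMod.natCast_zmod_val]
    exact hx
  obtain ⟨c, hc⟩ := hd
  have hpow : 2 ^ k = 2 * 2 ^ (k - 1) := by rw [← pow_succ', Nat.sub_add_cancel hk]
  have hc1 : c = 1 := by
    rcases Nat.lt_or_ge c 1 with h | h
    · have : c = 0 := by omega
      subst this
      omega
    · rcases Nat.lt_or_ge c 2 with h2 | h2
      · omega
      · have : 2 ^ k * 2 ≤ 2 ^ k * c := Nat.mul_le_mul_left _ h2
        omega
  subst hc1
  have hval : x.val = 2 ^ (k - 1) := by omega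
  rw [← hval, ZMod.natCast_zmod_val]

theorem mcdata_dih (k : ℕ) (hk : 2 ≤ k) :
    MCData (rot (2 ^ k)) (r ((2 ^ (k - 1) : ℕ) : ZMod (2 ^ k))) := by
  have : NeZero (2 ^ k) := ⟨by positivity⟩
  have hcast : ((2 ^ k : ℕ) : ZMod (2 ^ k)) = 0 := ZMod.natCast_self _
  have h2 : ((2 ^ (k - 1) : ℕ) : ZMod (2 ^ k)) + ((2 ^ (k - 1) : ℕ) : ZMod (2 ^ k)) = 0 := by
    rw [← Nat.cast_add, ← two_mul, ← pow_succ', Nat.sub_add_cancel (by omega)]
    exact hcast
  have h0 : ((2 ^ (k - 1) : ℕ) : ZMod (2 ^ k)) ≠ 0 := by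
    rw [Ne, ZMod.natCast_eq_zero_iff]
    intro hdvd
    have h1 := Nat.le_of_dvd (by positivity) hdvd
    have h3 : 2 ^ (k - 1) < 2 ^ k := Nat.pow_lt_pow_right (by norm_num) (by omega)
    omega
  have hneg : -((2 ^ (k - 1) : ℕ) : ZMod (2 ^ k)) = ((2 ^ (k - 1) : ℕ) : ZMod (2 ^ k)) :=
    neg_eq_of_add_eq_zero_left h2
  refine ⟨index_rot _, ⟨_, rfl⟩, ?_, ?_, ?_, ?_, ?_⟩
  · rw [Subgroup.mem_center_iff]
    intro g
    cases g with
    | r i => rw [r_mul_r, r_mul_r, add_comm]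
    | sr i =>
      rw [sr_mul_r, r_mul_sr, sub_eq_add_neg, hneg]
  · intro hz
    rw [one_def] at hz
    exact h0 (r.inj hz)
  · rw [r_mul_r, h2, r_zero]
  · rintro c ⟨i, rfl⟩ hc
    have hcardD : Nat.card (DihedralGroup (2 ^ k)) = 2 ^ (k + 1) := by
      rw [DihedralGroup.nat_card, pow_succ']
    have hdvd : orderOf (r i : DihedralGroup (2 ^ k)) ∣ 2 ^ (k + 1) := by
      rw [← hcardD]
      exact orderOf_dvd_natCard _
    obtain ⟨b, _, hb⟩ := (Nat.dvd_prime_pow Nat.prime_two).mp hdvd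
    have hb0 : b ≠ 0 := by
      rintro rfl
      rw [pow_zero, orderOf_eq_one_iff] at hb
      exact hc hb
    refine ⟨2 ^ (b - 1), ?_⟩
    rw [r_pow]
    congr 1
    apply zmod_two_torsion k (by omega)
    · have h1 : (r i : DihedralGroup (2 ^ k)) ^ (2 ^ b) = 1 := by
        rw [← hb]
        exact pow_orderOf_eq_one _
      rw [r_pow, one_def] at h1
      have h3 := r.inj h1
      have h4 : (2 ^ b : ℕ) = 2 ^ (b - 1) + 2 ^ (b - 1) := by
        rw [← two_mul, ← pow_succ', Nat.sub_add_cancel (by omega)]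
      rw [h4, Nat.cast_add, mul_add] at h3
      exact h3
    · intro h5
      have h6 : (r i : DihedralGroup (2 ^ k)) ^ (2 ^ (b - 1)) = 1 := by
        rw [r_pow, h5, r_zero]
      have h7 := orderOf_dvd_of_pow_eq_one h6
      rw [hb] at h7
      have h8 := Nat.le_of_dvd (by positivity) h7
      have h9 : 2 ^ (b - 1) < 2 ^ b := Nat.pow_lt_pow_right (by norm_num) (by omega)
      omega
  · intro t ht _
    obtain ⟨i, rfl⟩ := not_mem_rot_iff.mp ht
    refine ⟨r ((2 ^ (k - 2) : ℕ) : ZMod (2 ^ k)), ?_⟩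
    rw [inv_r, r_mul_sr, sr_mul_r, sr_mul_r]
    congr 1
    have h4 : ((2 ^ (k - 1) : ℕ) : ZMod (2 ^ k)) =
        ((2 ^ (k - 2) : ℕ) : ZMod (2 ^ k)) + ((2 ^ (k - 2) : ℕ) : ZMod (2 ^ k)) := by
      rw [← Nat.cast_add, ← two_mul, ← pow_succ']
      congr 2
      omega
    rw [← hneg, h4]
    ring

theorem mcdata_transport {G : Type v} [Group G] {D : Type} [Group D] (e : G ≃* D)
    (C : Subgroup D) (z : D) (h : MCData C z) :
    MCData (C.comap e.toMonoidHom) (e.symm z) := by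
  obtain ⟨h1, h2, h3, h4, h5, h6, h7⟩ := h
  refine ⟨?_, ?_, ?_, ?_, ?_, ?_, ?_⟩
  · rw [Subgroup.index_comap_of_surjective _ e.surjective]
    exact h1
  · show e (e.symm z) ∈ C
    rw [MulEquiv.apply_symm_apply]
    exact h2
  · rw [Subgroup.mem_center_iff] at h3 ⊢
    intro g
    apply e.injective
    rw [map_mul, map_mul, MulEquiv.apply_symm_apply]
    exact h3 (e g)
  · intro hz
    apply h4
    have h8 := congrArg e hz
    rwa [MulEquiv.apply_symm_apply, map_one] at h8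
  · apply e.injective
    rw [map_mul, MulEquiv.apply_symm_apply, map_one]
    exact h5
  · intro c hc hc1
    have hc' : e c ≠ 1 := fun h8 => hc1 (e.injective (by rw [h8, map_one]))
    obtain ⟨j, hj⟩ := h6 (e c) hc hc'
    exact ⟨j, e.injective (by rw [map_pow, MulEquiv.apply_symm_apply]; exact hj)⟩
  · intro t ht htt
    obtain ⟨g, hg⟩ := h7 (e t) ht (by rw [← map_mul, htt, map_one])
    exact ⟨e.symm g, e.injective (by
      rw [map_mul, map_mul, map_inv, map_mul, MulEquiv.apply_symm_apply,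
        MulEquiv.apply_symm_apply]; exact hg)⟩

theorem card_transport {G : Type v} [Group G] {D : Type} [Group D] (e : G ≃* D)
    (C : Subgroup D) :
    Nat.card {t : G // t ∉ C.comap e.toMonoidHom ∧ t * t = 1} =
      Nat.card {t : D // t ∉ C ∧ t * t = 1} := by
  apply Nat.card_congr
  refine e.toEquiv.subtypeEquiv (fun t => ?_)
  constructor
  · rintro ⟨h1, h2⟩
    exact ⟨h1, by
      show e t * e t = 1
      rw [← map_mul, h2, map_one]⟩
  · rintro ⟨h1, h2⟩
    exact ⟨h1, e.injective (by rw [map_mul, map_one]; exact h2)⟩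

/-- [DIH] -/
theorem pkgDih : PkgDih.{v} := by
  intro G _ _ n hG ⟨e⟩ hnc
  have hn0 : n ≠ 0 := by
    rintro rfl
    have : Finite (DihedralGroup 0) := Finite.of_equiv G e.toEquiv
    exact not_finite (DihedralGroup 0)
  have : NeZero n := ⟨hn0⟩
  obtain ⟨a, ha⟩ := hG.exists_card_eq
  have hcard : 2 * n = 2 ^ a := by
    rw [← ha, Nat.card_congr e.toEquiv, DihedralGroup.nat_card]
  have ha0 : a ≠ 0 := by
    rintro rfl
    rw [pow_zero] at hcard
    omega
  obtain ⟨k, rfl⟩ : ∃ k, a = k + 1 := Nat.exists_eq_succ_of_ne_zero ha0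
  have hn : n = 2 ^ k := by
    rw [pow_succ] at hcard
    omega
  subst hn
  have hk : 2 ≤ k := by
    by_contra hlt
    push Not at hlt
    apply hnc
    have hcomm : IsMulCommutative (DihedralGroup (2 ^ k)) := by
      rw [DihedralGroup.commutative_iff]
      interval_cases k <;> simp
    intro x y
    apply e.injective
    rw [map_mul, map_mul]
    exact hcomm.is_comm.comm (e x) (e y)
  refine ⟨k, (rot (2 ^ k)).comap e.toMonoidHom,
    e.symm (r ((2 ^ (k - 1) : ℕ) : ZMod (2 ^ k))), rfl,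
    mcdata_transport e _ _ (mcdata_dih k hk), ?_⟩
  rw [card_transport e, card_refl]

end Cfsg.Agent.Lib.Helper42.Half
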